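import Groth.Agent.DiffLib.Basic

/-!
# The different and the Noether different have the same zero locus
-/

set_option autoImplicit false

universe u v

open TensorProduct

namespace Groth.Agent.Disc93

variable {A : Type u} {B : Type v} [CommRing A] [CommRing B] [Algebra A B] [IsNoetherianRing A] [Module.Finite A B]
  [Module.Free A B]

omit [IsNoetherianRing A] in
/-- The Noether different is contained in the different. -/
theorem noetherDifferent_subset_differentSet :
    (Disc.noetherDifferent A B : Set B) ⊆ Disc.differentSet A B := by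
  classical
  intro m hm
  have hsurj : Function.Surjective (Algebra.TensorProduct.lmul' (S := B) A) := fun x =>
    ⟨x ⊗ₜ 1, by simp⟩
  obtain ⟨ξ, hξ, rfl⟩ := (Ideal.mem_map_iff_of_surjective _ hsurj).mp hm
  rw [DiffLib.mem_annihilator_iff] at hξ
  obtain ⟨k, x, y, rfl⟩ := TensorProduct.exists_sum_tmul_eq ξ
  intro φ
  refine ⟨∑ i, φ (x i) • y i, fun z => ?_⟩
  let b := Module.Free.chooseBasis A B
  rw [Algebra.trace_eq_matrix_trace b, Matrix.trace]
  simp only [Matrix.diag_apply, Algebra.leftMulMatrix_eq_repr_mul]
  have key : ∀ w : B, (∑ i, φ (x i) • y i) * w = ∑ i, φ (x i * w) • y i := fun w => by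
    have h := congrArg (DiffLib.ev (⟨φ⟩ : Disc.Omega A B)) (hξ w)
    simp only [Finset.mul_sum, Algebra.TensorProduct.tmul_mul_tmul, one_mul, map_sum, DiffLib.ev_tmul] at h
    rw [Finset.sum_mul]
    refine Eq.trans (Finset.sum_congr rfl fun i _ => ?_)
      (h.symm.trans (Finset.sum_congr rfl fun i _ => by rw [mul_comm w]))
    rw [smul_mul_assoc, mul_comm (y i)]
  calc φ (Algebra.TensorProduct.lmul' A (∑ i, x i ⊗ₜ[A] y i) * z)
      = ∑ i, φ (x i * z * y i) := by
        simp only [map_sum, Algebra.TensorProduct.lmul'_apply_tmul, Finset.sum_mul]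
        exact Finset.sum_congr rfl fun i _ => by rw [mul_right_comm]
    _ = ∑ i, ∑ j, b.repr (y i) j * φ (x i * (z * b j)) := Finset.sum_congr rfl fun i _ => by
        conv_lhs => rw [← b.sum_repr (y i)]
        simp only [Finset.mul_sum, map_sum, mul_smul_comm, map_smul, smul_eq_mul, mul_assoc]
    _ = _ := by
        rw [Finset.sum_comm]
        refine Finset.sum_congr rfl fun j _ => ?_
        rw [mul_assoc, key (z * b j), map_sum, Finsupp.finsetSum_apply]
        refine Finset.sum_congr rfl fun i _ => ?_
        simp [mul_comm]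

/-- The square of an element of the different lies in the Noether different. -/
theorem mul_self_mem_noetherDifferent {x : B} (hx : x ∈ Disc.differentSet A B) :
    x * x ∈ Disc.noetherDifferent A B := by
  classical
  have key : ∀ c : B, c • Disc.Omega.trace A B = 0 → x * c = 0 := fun c hc => by
    let b := Module.Free.chooseBasis A B
    refine b.repr.injective (Finsupp.ext fun j => ?_)
    obtain ⟨c', hc'⟩ := hx (b.coord j)
    have h := congrArg (fun m : Disc.Omega A B => m.toLinearMap c') hc
    simp only [Disc.Omega.smul_toLinearMap_apply, Disc.Omega.zero_toLinearMap, LinearMap.zero_apply] at h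
    change b.coord j (x * c) = _
    rw [hc', mul_comm c' c]
    simpa [Disc.Omega.trace] using h
  choose f hf using fun l : Disc.Omega A B => hx l.toLinearMap
  have hf' : ∀ l : Disc.Omega A B, x • l = f l • Disc.Omega.trace A B := fun l =>
    Disc.Omega.ext (LinearMap.ext fun y => hf l y)
  let Φ : Disc.Omega A B →ₗ[B] B :=
    { toFun := fun l => x * f l
      map_add' := fun l l' => by
        rw [← sub_eq_zero, ← mul_add, ← mul_sub]
        refine key _ ?_
        rw [sub_smul, add_smul, ← hf', ← hf', ← hf', ← smul_add, sub_self]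
      map_smul' := fun r l => by
        rw [RingHom.id_apply, smul_eq_mul, ← sub_eq_zero, mul_left_comm r x, ← mul_sub]
        refine key _ ?_
        rw [sub_smul, mul_smul, ← hf', ← hf', smul_comm r x, sub_self] }
  have hΦ : Φ (Disc.Omega.trace A B) = x * x := by
    change x * f _ = x * x
    rw [← sub_eq_zero, ← mul_sub]
    refine key _ ?_
    rw [sub_smul, ← hf', sub_self]
  have h := (Set.ext_iff.mp (DiffLib.noetherDifferent_eq (A := A) (B := B)
    (b := Module.Free.chooseBasis A B)) (x * x)).mpr ⟨Φ, hΦ⟩
  exact h

end Groth.Agent.Disc93
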