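import Groth.Agent.FittX.Ideal
import Mathlib

/-!
# The Kähler different of a presentation with as many equations as variables
-/

set_option autoImplicit false

universe u

open TensorProduct KaehlerDifferential

namespace Groth.Agent.Disc93

variable (A : Type u) [CommRing A] (n : ℕ) (f : Fin n → MvPolynomial (Fin n) A)

local notation "P" => MvPolynomial (Fin n) A
local notation "B" => MvPolynomial (Fin n) A ⧸ Ideal.span (Set.range f)

/-- The differentials of the coordinates. -/
noncomputable def dx (j : Fin n) : Ω[B⁄A] := D A B (Ideal.Quotient.mk _ (MvPolynomial.X j))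

/-- A row of the Jacobian. -/
noncomputable def jacRow (i : Fin n) : Fin n → B := fun j => Ideal.Quotient.mk _ (MvPolynomial.pderiv j (f i))

theorem span_dx : Submodule.span B (Set.range (dx A n f)) = ⊤ := by
  rw [eq_top_iff, ← KaehlerDifferential.span_range_derivation A B, Submodule.span_le]
  rintro _ ⟨b, rfl⟩
  obtain ⟨p, rfl⟩ := Ideal.Quotient.mk_surjective b
  have h := congrArg (KaehlerDifferential.map A A P B) (((mvPolynomialBasis A (Fin n)).sum_repr (D A P p)).symm)
  rw [KaehlerDifferential.map_D, map_sum] at h
  rw [SetLike.mem_coe, show Ideal.Quotient.mk (Ideal.span (Set.range f)) p = algebraMap P B p from rfl, h]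
  refine sum_mem fun j _ => ?_
  rw [map_smul, mvPolynomialBasis_apply, KaehlerDifferential.map_D, ← algebraMap_smul B]
  exact Submodule.smul_mem _ _ (Submodule.subset_span ⟨j, rfl⟩)

theorem rel_dx : FittX.rel (R := B) (dx A n f) = Submodule.span B (Set.range (jacRow A n f)) := by
  classical
  let e := (mvPolynomialBasis A (Fin n)).baseChange B
  apply le_antisymm
  · intro z hz
    rw [FittX.mem_rel] at hz
    let w : B ⊗[P] Ω[P⁄A] := ∑ j, z j ⊗ₜ[P] D A P (MvPolynomial.X j)
    have hw : KaehlerDifferential.mapBaseChange A P B w = 0 := by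
      simp only [w, map_sum, KaehlerDifferential.mapBaseChange_tmul, KaehlerDifferential.map_D]
      exact hz
    obtain ⟨c, hc⟩ := (KaehlerDifferential.exact_kerCotangentToTensor_mapBaseChange A P B
      Ideal.Quotient.mk_surjective w).mp hw
    obtain ⟨⟨g, hg⟩, rfl⟩ := Ideal.toCotangent_surjective _ c
    rw [KaehlerDifferential.kerCotangentToTensor_toCotangent] at hc
    have hzj : ∀ j, z j = Ideal.Quotient.mk _ (MvPolynomial.pderiv j g) := fun j => by
      have h1 := congrArg (fun x => e.repr x j) hc
      simp only [w, map_sum, Finsupp.coe_finsetSum, Finset.sum_apply, e, Module.Basis.baseChange_repr_tmul,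
        mvPolynomialBasis_repr_D_X] at h1
      rw [Finset.sum_eq_single j (fun i _ hij => by rw [Finsupp.single_eq_of_ne' hij, zero_smul])
        (fun h => absurd (Finset.mem_univ j) h), Finsupp.single_eq_same, one_smul] at h1
      rw [← h1, mvPolynomialBasis_repr_apply, Algebra.smul_def, mul_one]
      rfl
    rw [RingHom.mem_ker] at hg
    obtain ⟨a, rfl⟩ := Ideal.mem_span_range_iff_exists_fun.mp (Ideal.Quotient.eq_zero_iff_mem.mp hg)
    rw [Submodule.mem_span_range_iff_exists_fun]
    refine ⟨fun i => Ideal.Quotient.mk _ (a i), funext fun j => ?_⟩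
    rw [hzj j, Finset.sum_apply, map_sum, map_sum]
    refine Finset.sum_congr rfl fun i _ => ?_
    rw [Derivation.leibniz, map_add, smul_eq_mul, smul_eq_mul, map_mul, map_mul,
      Ideal.Quotient.eq_zero_iff_mem.mpr (Ideal.subset_span (Set.mem_range_self i) : f i ∈ _), zero_mul, add_zero]
    rfl
  · rw [Submodule.span_le]
    rintro _ ⟨i, rfl⟩
    rw [SetLike.mem_coe, FittX.mem_rel]
    have h : D A B (algebraMap P B (f i)) = 0 := by
      rw [show algebraMap P B (f i) = 0 from Ideal.Quotient.eq_zero_iff_mem.mpr (Ideal.subset_span (Set.mem_range_self i)),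
        map_zero]
    rw [← KaehlerDifferential.map_D A A P B, ← (mvPolynomialBasis A (Fin n)).sum_repr (D A P (f i)), map_sum] at h
    refine Eq.trans (Finset.sum_congr rfl fun j _ => ?_) h
    rw [map_smul, mvPolynomialBasis_apply, KaehlerDifferential.map_D, mvPolynomialBasis_repr_apply, ← algebraMap_smul B]
    rfl

/-- The zeroth Fitting ideal of the differentials is generated by the Jacobian determinant. -/
theorem fittingIdeal_eq_span_det : Fitt.ideal B Ω[B⁄A] 0 =
    Ideal.span {Ideal.Quotient.mk (Ideal.span (Set.range f))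
      (Matrix.det (Matrix.of fun i j => MvPolynomial.pderiv j (f i)))} := by
  classical
  haveI : Module.Finite B Ω[B⁄A] := ⟨⟨Finset.univ.image (dx A n f), by
    rw [Finset.coe_image, Finset.coe_univ, Set.image_univ]; exact span_dx A n f⟩⟩
  rw [FittX.ideal_eq_minors (dx A n f) (span_dx A n f) 0, rel_dx, Nat.sub_zero]
  have hJ : Ideal.Quotient.mk (Ideal.span (Set.range f)) (Matrix.det (Matrix.of fun i j => MvPolynomial.pderiv j (f i))) =
      FittX.minor (fun a => (LinearMap.proj a : Module.Dual B (Fin n → B))) (jacRow A n f) := by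
    rw [RingHom.map_det]
    rfl
  refine le_antisymm ?_ ?_
  · rw [FittX.minors, Ideal.span_le]
    rintro _ ⟨φ, z, hz, rfl⟩
    choose c hc using fun b => (Submodule.mem_span_range_iff_exists_fun B).mp (hz b)
    rw [SetLike.mem_coe, Ideal.mem_span_singleton]
    have hM : (Matrix.of fun b a => φ a (z b)) =
        Matrix.of c * (Matrix.of fun i j => jacRow A n f i j) * Matrix.of (fun j a => φ a (Pi.single j 1)) := by
      refine Matrix.ext fun b a => ?_
      rw [Matrix.mul_apply, Matrix.of_apply, ← hc b, map_sum]
      simp only [Matrix.mul_apply, Matrix.of_apply, Finset.sum_mul]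
      rw [Finset.sum_comm]
      refine Finset.sum_congr rfl fun i _ => ?_
      rw [map_smul, smul_eq_mul]
      conv_lhs => rw [pi_eq_sum_univ' (jacRow A n f i), map_sum, Finset.mul_sum]
      exact Finset.sum_congr rfl fun j _ => by rw [map_smul, smul_eq_mul, mul_assoc]
    rw [hJ]
    simp only [FittX.minor]
    rw [hM, Matrix.det_mul, Matrix.det_mul]
    exact Dvd.dvd.mul_right (Dvd.dvd.mul_left dvd_rfl _) _
  · rw [Ideal.span_le, Set.singleton_subset_iff, SetLike.mem_coe, hJ]
    exact FittX.minor_mem _ fun b => Submodule.subset_span (Set.mem_range_self b)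

end Groth.Agent.Disc93
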