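import Groth.Agent.Disc93.NoetherGCI
import Groth.Agent.Disc93.FittingGCI
import Groth.Agent.S2220
import Groth.Agent.S2237
import Groth.Agent.Synt29.FlatLCI
import Mathlib

/-!
# Noether different = Kähler different for flat quasi-finite lci maps
-/

set_option autoImplicit false

universe u

open TensorProduct AlgebraicGeometry

namespace Groth.Agent.Disc93

theorem fitting_kaehler_formallyEtale (A B' B : Type u) [CommRing A] [CommRing B'] [CommRing B] [Algebra A B']
    [Algebra A B] [Algebra B' B] [IsScalarTower A B' B] [Algebra.FormallyEtale B' B]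
    [Module.Finite B' Ω[B'⁄A]] :
    Fitt.ideal B Ω[B⁄A] 0 = (Fitt.ideal B' Ω[B'⁄A] 0).map (algebraMap B' B) :=
  FittX.ideal_baseChange (KaehlerDifferential.isBaseChange_of_formallyEtale A B' B) 0

theorem isOpenImmersion_of_algEquiv {A B B' : Type u} [CommRing A] [CommRing B] [CommRing B'] [Algebra A B] [Algebra A B']
    (e : B' ≃ₐ[A] B) : IsOpenImmersion (Spec.map (CommRingCat.ofHom (e.toAlgHom.toRingHom))) := by
  haveI : CategoryTheory.IsIso (CommRingCat.ofHom e.toAlgHom.toRingHom) :=
    (CategoryTheory.ConcreteCategory.isIso_iff_bijective _).mpr e.bijective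
  infer_instance

theorem noetherDifferent_eq_fitting {A B : Type u} [CommRing A] [CommRing B] [Algebra A B] [Module.Flat A B]
    [Algebra.QuasiFinite A B] [Algebra.FiniteType A B] (hlci : LCI.IsLCI A B) :
    Disc.noetherDifferent A B = Fitt.ideal B Ω[B⁄A] 0 := by
  have hloc : ∀ (q : Ideal B) [q.IsPrime], ∃ g : B, g ∉ q ∧
      (Disc.noetherDifferent A B).map (algebraMap B (Localization.Away g)) =
        (Fitt.ideal B Ω[B⁄A] 0).map (algebraMap B (Localization.Away g)) := by
    intro q _
    obtain ⟨g, hg, n, f, ⟨e⟩⟩ := S2237.result hlci q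
    refine ⟨g, hg, ?_⟩
    have hopen : IsOpenImmersion (Spec.map (CommRingCat.ofHom (algebraMap B (Localization.Away g)))) :=
      IsOpenImmersion.of_isLocalization g
    haveI : Algebra.FormallyEtale B (Localization.Away g) :=
      Algebra.FormallyEtale.of_isLocalization (Submonoid.powers g)
    haveI : Algebra.QuasiFinite A (Localization.Away g) := Algebra.QuasiFinite.trans A B _
    rw [← S2220.result hopen, ← fitting_kaehler_formallyEtale A B (Localization.Away g)]
    letI := e.symm.toAlgHom.toRingHom.toAlgebra
    haveI : IsScalarTower A (MvPolynomial (Fin n) A ⧸ Ideal.span (Set.range f)) (Localization.Away g) :=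
      IsScalarTower.of_algebraMap_eq (R := A) (S := MvPolynomial (Fin n) A ⧸ Ideal.span (Set.range f))
        (A := Localization.Away g) fun a => (e.symm.commutes a).symm
    haveI : Algebra.FormallyEtale (MvPolynomial (Fin n) A ⧸ Ideal.span (Set.range f)) (Localization.Away g) :=
      Algebra.FormallyEtale.of_equiv
        (AlgEquiv.ofBijective (Algebra.ofId (MvPolynomial (Fin n) A ⧸ Ideal.span (Set.range f)) (Localization.Away g))
          e.symm.bijective)
    haveI : Algebra.QuasiFinite A (MvPolynomial (Fin n) A ⧸ Ideal.span (Set.range f)) :=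
      Algebra.QuasiFinite.of_surjective_algHom e.toAlgHom e.surjective
    rw [S2220.result (B' := MvPolynomial (Fin n) A ⧸ Ideal.span (Set.range f)) (isOpenImmersion_of_algEquiv e.symm),
      fitting_kaehler_formallyEtale A (MvPolynomial (Fin n) A ⧸ Ideal.span (Set.range f)) (Localization.Away g),
      noetherDifferent_eq_span_det A n f (isRelGCI_of_quasiFinite A n f), fittingIdeal_eq_span_det A n f]
  refine Ideal.ext fun x => ?_
  have key : ∀ I J : Ideal B, (∀ (q : Ideal B) [q.IsPrime], ∃ g : B, g ∉ q ∧
      I.map (algebraMap B (Localization.Away g)) = J.map (algebraMap B (Localization.Away g))) → x ∈ J → x ∈ I := by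
    intro I J h hx
    by_contra hxI
    let C : Ideal B := Submodule.colon I ({x} : Set B)
    have hC : C ≠ ⊤ := fun hC => hxI (by
      have h1 : (1 : B) ∈ C := by rw [hC]; exact Submodule.mem_top
      simpa [C, Submodule.mem_colon_singleton] using h1)
    obtain ⟨m, hm, hCm⟩ := Ideal.exists_le_maximal C hC
    obtain ⟨g, hg, he⟩ := h m
    have hmem : algebraMap B (Localization.Away g) x ∈ I.map (algebraMap B (Localization.Away g)) :=
      he ▸ Ideal.mem_map_of_mem _ hx
    obtain ⟨_, ⟨k, rfl⟩, hk⟩ := (IsLocalization.algebraMap_mem_map_algebraMap_iff (Submonoid.powers g) _ I x).mp hmem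
    exact hg (hm.isPrime.mem_of_pow_mem k (hCm (Submodule.mem_colon_singleton.mpr hk)))
  exact ⟨key _ _ (fun q _ => (hloc q).imp fun g h => ⟨h.1, h.2.symm⟩), key _ _ hloc⟩

end Groth.Agent.Disc93
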