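import Mathlib

/-!
# Flatness over total rings of fractions
-/

set_option autoImplicit false

universe u

open TensorProduct

namespace Groth.Agent.Disc93

attribute [local instance] Algebra.TensorProduct.rightAlgebra

variable (A B : Type u) [CommRing A] [CommRing B] [Algebra A B]

/-- If the generic base change is flat, so are the local rings at primes avoiding regular elements. -/
theorem flat_atPrime_of_flat_fractionRing (h : Module.Flat (FractionRing A) (FractionRing A ⊗[A] B))
    (q : Ideal B) [q.IsPrime] (hq : Disjoint (nonZeroDivisors A : Set A) (q.comap (algebraMap A B) : Set A)) :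
    Module.Flat A (Localization.AtPrime q) := by
  let B' := FractionRing A ⊗[A] B
  let M := Algebra.algebraMapSubmonoid B (nonZeroDivisors A)
  have hle : M ≤ q.primeCompl := by
    rintro _ ⟨a, ha, rfl⟩ hmem
    exact Set.disjoint_left.1 hq ha hmem
  haveI : IsLocalization M B' := inferInstanceAs (IsLocalization (Algebra.algebraMapSubmonoid B (nonZeroDivisors A)) (FractionRing A ⊗[A] B))
  letI : Algebra B' (Localization.AtPrime q) :=
    IsLocalization.localizationAlgebraOfSubmonoidLe _ _ M q.primeCompl hle
  haveI : IsScalarTower B B' (Localization.AtPrime q) :=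
    IsLocalization.localization_isScalarTower_of_submonoid_le _ _ M q.primeCompl hle
  haveI : IsScalarTower A B' (Localization.AtPrime q) := IsScalarTower.of_algebraMap_eq fun a => by
    change algebraMap A (Localization.AtPrime q) a = algebraMap B' (Localization.AtPrime q) (algebraMap A B' a)
    rw [IsScalarTower.algebraMap_apply A B (Localization.AtPrime q), IsScalarTower.algebraMap_apply A B B',
      IsScalarTower.algebraMap_apply B B' (Localization.AtPrime q)]
  haveI : IsLocalization (q.primeCompl.map (algebraMap B B')) (Localization.AtPrime q) :=
    IsLocalization.isLocalization_of_submonoid_le _ _ M q.primeCompl hle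
  haveI : Module.Flat B' (Localization.AtPrime q) := IsLocalization.flat _ (q.primeCompl.map (algebraMap B B'))
  haveI : Module.Flat A B' := Module.Flat.trans A (FractionRing A) B'
  exact Module.Flat.trans A B' (Localization.AtPrime q)

/-- With going up, flatness above the associated primes gives generic flatness. -/
theorem flat_fractionRing_baseChange [IsNoetherianRing A] [Algebra.HasGoingUp A B]
    (h : ∀ (q : Ideal B) [q.IsPrime], IsAssociatedPrime (q.comap (algebraMap A B)) A →
      Module.Flat A (Localization.AtPrime q)) :
    Module.Flat (FractionRing A) (FractionRing A ⊗[A] B) := by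
  classical
  let B' := FractionRing A ⊗[A] B
  let M := Algebra.algebraMapSubmonoid B (nonZeroDivisors A)
  haveI : IsLocalization M B' := inferInstanceAs (IsLocalization (Algebra.algebraMapSubmonoid B (nonZeroDivisors A)) (FractionRing A ⊗[A] B))
  rw [Module.flat_iff_of_isLocalization (FractionRing A) (nonZeroDivisors A)]
  refine Module.flat_of_isLocalized_maximal (R := A) B' B' (fun P _ => Localization.AtPrime P)
    (fun P _ => Algebra.linearMap B' (Localization.AtPrime P)) fun P hP => ?_
  let q := P.comap (algebraMap B B')
  obtain ⟨hqp, hdis⟩ := (IsLocalization.isPrime_iff_isPrime_disjoint M B' P).mp hP.isPrime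
  haveI : q.IsPrime := hqp
  have hsub : ((q.comap (algebraMap A B) : Ideal A) : Set A) ⊆ ⋃ p ∈ associatedPrimes A A, (p : Set A) := fun a ha => by
    rw [biUnion_associatedPrimes_eq_compl_nonZeroDivisors]
    exact fun hnz => Set.disjoint_left.1 hdis ⟨a, hnz, rfl⟩ ha
  obtain ⟨p, hp, hqle⟩ := (Ideal.subset_union_prime_finite (associatedPrimes.finite A A) ⊥ ⊥
    (fun p hp _ _ => hp.isPrime)).mp hsub
  haveI : p.IsPrime := hp.isPrime
  obtain ⟨q', hqq', hq', ho⟩ : ∃ q', q ≤ q' ∧ q'.IsPrime ∧ q'.LiesOver p := by
    rcases eq_or_lt_of_le hqle with h' | h'
    · exact ⟨q, le_rfl, inferInstance, ⟨h'.symm⟩⟩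
    · exact Algebra.HasGoingUp.exists_ideal_ge_liesOver_of_lt q h'
  haveI := hq'
  haveI := h q' (show IsAssociatedPrime (Ideal.under A q') A from ho.over ▸ hp)
  have hle : q'.primeCompl ≤ q.primeCompl := fun x hx hxq => hx (hqq' hxq)
  letI : Algebra (Localization.AtPrime q') (Localization.AtPrime q) :=
    IsLocalization.localizationAlgebraOfSubmonoidLe _ _ q'.primeCompl q.primeCompl hle
  haveI : IsScalarTower B (Localization.AtPrime q') (Localization.AtPrime q) :=
    IsLocalization.localization_isScalarTower_of_submonoid_le _ _ q'.primeCompl q.primeCompl hle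
  haveI : IsScalarTower A (Localization.AtPrime q') (Localization.AtPrime q) := IsScalarTower.of_algebraMap_eq fun a => by
    change algebraMap A (Localization.AtPrime q) a =
      algebraMap (Localization.AtPrime q') (Localization.AtPrime q) (algebraMap A (Localization.AtPrime q') a)
    rw [IsScalarTower.algebraMap_apply A B (Localization.AtPrime q),
      IsScalarTower.algebraMap_apply A B (Localization.AtPrime q'),
      IsScalarTower.algebraMap_apply B (Localization.AtPrime q') (Localization.AtPrime q)]
  haveI : IsLocalization (q.primeCompl.map (algebraMap B (Localization.AtPrime q'))) (Localization.AtPrime q) :=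
    IsLocalization.isLocalization_of_submonoid_le _ _ q'.primeCompl q.primeCompl hle
  haveI : Module.Flat (Localization.AtPrime q') (Localization.AtPrime q) :=
    IsLocalization.flat _ (q.primeCompl.map (algebraMap B (Localization.AtPrime q')))
  haveI : Module.Flat A (Localization.AtPrime q) := Module.Flat.trans A (Localization.AtPrime q') _
  haveI : IsLocalization.AtPrime (Localization.AtPrime P) q :=
    IsLocalization.isLocalization_isLocalization_atPrime_isLocalization M (Localization.AtPrime P) P
  exact Module.Flat.of_linearEquiv
    ((IsLocalization.algEquiv q.primeCompl (Localization.AtPrime P) (Localization.AtPrime q)).toLinearEquiv.restrictScalars A)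

end Groth.Agent.Disc93
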