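import Groth.Agent.S2235
import Groth.Agent.S9147
import Groth.Agent.S9254
import Groth.Agent.S15821
import Groth.Agent.Synt29.KoszulSyntomic
import Groth.Agent.GrLib8.RegBound
import Mathlib

/-!
# The Noether different of a quasi-finite presentation with as many equations as variables
-/

set_option autoImplicit false

universe u

open TensorProduct

namespace Groth.Agent.Disc93

variable (A : Type u) [CommRing A] (n : ℕ) (f : Fin n → MvPolynomial (Fin n) A)

local notation "P" => MvPolynomial (Fin n) A
local notation "B" => MvPolynomial (Fin n) A ⧸ Ideal.span (Set.range f)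

noncomputable local instance tensorCommRing : CommRing (P ⊗[A] B) := Algebra.TensorProduct.instCommRing

theorem isRelGCI_of_quasiFinite [Algebra.QuasiFinite A B] : Synt.IsRelGCI A n n f := fun p hp => by
  refine ⟨le_rfl, ?_⟩
  haveI : Nontrivial (p.asIdeal.Fiber B) := hp
  rw [Nat.sub_self, Nat.cast_zero]
  have hA : IsArtinianRing (p.asIdeal.Fiber B) := inferInstanceAs (IsArtinianRing (p.asIdeal.Fiber B))
  letI : CommRing (p.asIdeal.Fiber B) := Algebra.TensorProduct.instCommRing
  haveI : Ring.KrullDimLE 0 (p.asIdeal.Fiber B) := inferInstance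
  exact le_antisymm (Ring.krullDimLE_iff.mp ‹Ring.KrullDimLE 0 (p.asIdeal.Fiber B)›) ringKrullDim_nonneg_of_nontrivial

theorem flat_of_isRelGCI (h : Synt.IsRelGCI A n n f) : Module.Flat A B := (S9147.result A n n f h).1

/-- The differences `x_j ⊗ 1 - 1 ⊗ x̄_j`. -/
noncomputable def diagGen (j : Fin n) : P ⊗[A] B :=
  MvPolynomial.X j ⊗ₜ[A] (1 : B) - (1 : P) ⊗ₜ[A] (Ideal.Quotient.mk _ (MvPolynomial.X j))

theorem productMap_apply' (p : P) (b : B) :
    Algebra.TensorProduct.productMap (Ideal.Quotient.mkₐ A (Ideal.span (Set.range f))) (AlgHom.id A B) (p ⊗ₜ b) =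
      Ideal.Quotient.mk _ p * b := Algebra.TensorProduct.productMap_apply_tmul _ _ _ _

theorem span_diagGen : Ideal.span (Set.range (diagGen A n f)) = RingHom.ker (Algebra.TensorProduct.productMap
      (Ideal.Quotient.mkₐ A (Ideal.span (Set.range f))) (AlgHom.id A B)) := by
  apply le_antisymm
  · rw [Ideal.span_le]
    rintro _ ⟨j, rfl⟩
    rw [SetLike.mem_coe, RingHom.mem_ker, diagGen, map_sub, productMap_apply', productMap_apply', map_one, one_mul, mul_one,
      sub_self]
  · intro t ht
    have hp : ∀ p : P, p ⊗ₜ[A] (1 : B) - (1 : P) ⊗ₜ[A] (Ideal.Quotient.mk _ p) ∈ Ideal.span (Set.range (diagGen A n f)) := by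
      intro p
      induction p using MvPolynomial.induction_on with
      | C a =>
        rw [show (MvPolynomial.C a : P) = a • (1 : P) from (Algebra.algebraMap_eq_smul_one a), TensorProduct.smul_tmul,
          show Ideal.Quotient.mk (Ideal.span (Set.range f)) (a • (1 : P)) = a • (1 : B) from rfl, sub_self]
        exact zero_mem _
      | add p q hp hq =>
        rw [add_tmul, map_add, tmul_add, add_sub_add_comm]
        exact add_mem hp hq
      | mul_X p j hp =>
        have e : (p * MvPolynomial.X j) ⊗ₜ[A] (1 : B) - (1 : P) ⊗ₜ[A] (Ideal.Quotient.mk _ (p * MvPolynomial.X j)) =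
            (p ⊗ₜ[A] (1 : B) - (1 : P) ⊗ₜ[A] (Ideal.Quotient.mk _ p)) * (MvPolynomial.X j ⊗ₜ[A] (1 : B)) +
              ((1 : P) ⊗ₜ[A] (Ideal.Quotient.mk _ p)) * diagGen A n f j := by
          simp only [diagGen, sub_mul, mul_sub, Algebra.TensorProduct.tmul_mul_tmul, one_mul, mul_one, map_mul]
          abel
        rw [e]
        exact add_mem (Ideal.mul_mem_right _ _ hp) (Ideal.mul_mem_left _ _ (Ideal.subset_span ⟨j, rfl⟩))
    have key : ∀ t : P ⊗[A] B, t - (1 : P) ⊗ₜ[A] (Algebra.TensorProduct.productMap
        (Ideal.Quotient.mkₐ A (Ideal.span (Set.range f))) (AlgHom.id A B) t) ∈ Ideal.span (Set.range (diagGen A n f)) := by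
      intro t
      induction t using TensorProduct.induction_on with
      | zero => simp
      | tmul p b =>
        have e : p ⊗ₜ[A] b - (1 : P) ⊗ₜ[A] (Ideal.Quotient.mk _ p * b) =
            (p ⊗ₜ[A] (1 : B) - (1 : P) ⊗ₜ[A] (Ideal.Quotient.mk _ p)) * ((1 : P) ⊗ₜ[A] b) := by
          simp [sub_mul, Algebra.TensorProduct.tmul_mul_tmul]
        rw [productMap_apply', e]
        exact Ideal.mul_mem_right _ _ (hp p)
      | add x y hx hy =>
        rw [map_add, tmul_add, add_sub_add_comm]
        exact add_mem hx hy
    have := key t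
    rw [RingHom.mem_ker.mp ht] at this
    simpa using this

theorem isKoszulRegularSeq_diagGen : LCI.IsKoszulRegularSeq (P ⊗[A] B) (List.ofFn (diagGen A n f)) := by
  let b : Fin n → B := fun j => Ideal.Quotient.mk _ (MvPolynomial.X j)
  let e₁ : P ⊗[A] B ≃+* MvPolynomial (Fin n) B :=
    (Algebra.TensorProduct.comm A P B).toRingEquiv.trans (MvPolynomial.algebraTensorAlgEquiv A B).toRingEquiv
  let τ : MvPolynomial (Fin n) B ≃ₐ[B] MvPolynomial (Fin n) B :=
    AlgEquiv.ofAlgHom (MvPolynomial.aeval fun j => MvPolynomial.X j + MvPolynomial.C (b j))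
      (MvPolynomial.aeval fun j => MvPolynomial.X j - MvPolynomial.C (b j))
      (MvPolynomial.algHom_ext fun j => by simp; ring) (MvPolynomial.algHom_ext fun j => by simp)
  let e : P ⊗[A] B ≃+* MvPolynomial (Fin n) B := e₁.trans τ.toRingEquiv
  have he : ∀ j, e.symm (MvPolynomial.X j) = diagGen A n f j := fun j => by
    rw [RingEquiv.symm_apply_eq]
    show (MvPolynomial.X j : MvPolynomial (Fin n) B) = τ (MvPolynomial.algebraTensorAlgEquiv A B
      (Algebra.TensorProduct.comm A P B (diagGen A n f j)))
    simp [τ, diagGen, b, Algebra.smul_def]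
    ring
  have h := Synt29.isKoszulRegularSeq_map_equiv e.symm _
    (S15821.result (MvPolynomial (Fin n) B) (List.ofFn MvPolynomial.X) (GrLib8.isWeaklyRegular_X B n)).1
  rw [List.map_ofFn, show (e.symm ∘ MvPolynomial.X : Fin n → P ⊗[A] B) = diagGen A n f from funext he] at h
  exact h

/-- The annihilator of the diagonal is principal, generated by an element mapping to the Jacobian determinant. -/
theorem exists_annihilator_eq_span (h : Synt.IsRelGCI A n n f) :
    ∃ Δ : B ⊗[A] B, Submodule.annihilator (RingHom.ker (Algebra.TensorProduct.lmul' (S := B) A)) = Ideal.span {Δ} ∧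
      Algebra.TensorProduct.lmul' (S := B) A Δ =
        Ideal.Quotient.mk _ (Matrix.det (Matrix.of fun i j => MvPolynomial.pderiv j (f i))) := by
  classical
  haveI := flat_of_isRelGCI A n f h
  let μ := Algebra.TensorProduct.productMap (Ideal.Quotient.mkₐ A (Ideal.span (Set.range f))) (AlgHom.id A B)
  have hzero : ∀ i, Ideal.Quotient.mk (Ideal.span (Set.range f)) (f i) = 0 := fun i =>
    Ideal.Quotient.eq_zero_iff_mem.mpr (Ideal.subset_span (Set.mem_range_self i))
  have hmem : ∀ i, f i ⊗ₜ[A] (1 : B) ∈ Ideal.span (Set.range (diagGen A n f)) := fun i => by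
    rw [span_diagGen, RingHom.mem_ker, productMap_apply', hzero, zero_mul]
  choose c hc using fun i => Ideal.mem_span_range_iff_exists_fun.mp (hmem i)
  refine ⟨_, S2235.result f (S9254.result A n n f h) (diagGen A n f) (isKoszulRegularSeq_diagGen A n f)
    (span_diagGen A n f) (Matrix.of c) (fun i => (hc i).symm), ?_⟩
  have hcomp : ∀ t, Algebra.TensorProduct.lmul' (S := B) A (Algebra.TensorProduct.map
      (Ideal.Quotient.mkₐ A (Ideal.span (Set.range f))) (AlgHom.id A B) t) = μ t := fun t => by
    induction t using TensorProduct.induction_on with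
    | zero => simp
    | tmul p b => simp [μ]
    | add x y hx hy => rw [map_add, map_add, map_add, hx, hy]
  rw [hcomp]
  have hμg : ∀ j, μ (diagGen A n f j) = 0 := fun j => by
    rw [← RingHom.mem_ker, ← span_diagGen]
    exact Ideal.subset_span ⟨j, rfl⟩
  have hentry : ∀ i j, μ (c i j) = Ideal.Quotient.mk _ (MvPolynomial.pderiv j (f i)) := by
    intro i j
    let δ := TensorProduct.map (MvPolynomial.pderiv (R := A) j).toLinearMap (LinearMap.id : B →ₗ[A] B)
    have hδ : ∀ x y : P ⊗[A] B, μ (δ (x * y)) = μ (δ x) * μ y + μ x * μ (δ y) := by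
      intro x y
      induction x using TensorProduct.induction_on with
      | zero => simp
      | tmul p b =>
        induction y using TensorProduct.induction_on with
        | zero => simp
        | tmul q b' =>
          simp only [δ, μ, Algebra.TensorProduct.tmul_mul_tmul, TensorProduct.map_tmul, LinearMap.id_apply,
            Derivation.coeFn_coe, Derivation.leibniz, smul_eq_mul, productMap_apply', map_add, map_mul]
          ring
        | add a a' h₁ h₂ => rw [mul_add, map_add, map_add, h₁, h₂, map_add δ, map_add μ, map_add μ]; ring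
      | add a a' h₁ h₂ => rw [add_mul, map_add, map_add, h₁, h₂, map_add δ, map_add μ, map_add μ]; ring
    have hg : ∀ l, μ (δ (diagGen A n f l)) = if l = j then 1 else 0 := fun l => by
      simp only [δ, μ, diagGen, map_sub, TensorProduct.map_tmul, Derivation.coeFn_coe, MvPolynomial.pderiv_X,
        productMap_apply', LinearMap.id_apply, MvPolynomial.pderiv_one, map_zero, zero_mul, sub_zero, mul_one]
      rw [Pi.single_apply]
      split_ifs with h1 h2 h2 <;> simp_all
    have h := congrArg (fun t => μ (δ t)) (hc i)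
    simp only [map_sum, hδ, hμg, mul_zero, zero_add, hg, mul_ite, mul_one, Finset.sum_ite_eq', Finset.mem_univ,
      if_true] at h
    rw [h]
    simp [δ, μ, productMap_apply']
  rw [AlgHom.map_det, RingHom.map_det]
  refine congrArg Matrix.det (Matrix.ext fun i j => ?_)
  exact hentry i j

/-- The Noether different is generated by the Jacobian determinant. -/
theorem noetherDifferent_eq_span_det (h : Synt.IsRelGCI A n n f) : Disc.noetherDifferent A B =
    Ideal.span {Ideal.Quotient.mk _ (Matrix.det (Matrix.of fun i j => MvPolynomial.pderiv j (f i)))} := by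
  obtain ⟨Δ, hΔ, hμ⟩ := exists_annihilator_eq_span A n f h
  rw [Disc.noetherDifferent, hΔ, Ideal.map_span, Set.image_singleton, hμ]

end Groth.Agent.Disc93
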