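import Groth.Agent.Disc93.NoetherGCI
import Groth.Agent.S8964
import Groth.Agent.DiffLib.Basic
import Mathlib

/-!
# The dualizing module of a finite free global complete intersection is generated by the trace form over the Jacobian
-/

set_option autoImplicit false

universe u

open TensorProduct AlgebraicGeometry

namespace Groth.Agent.Disc93

theorem omega_invertible_of_isSyntomic (A B : Type u) [CommRing A] [CommRing B] [Algebra A B] [IsNoetherianRing A]
    [Module.Finite A B] (hs : Synt.IsSyntomic A B) : Module.Invertible B (Disc.Omega A B) := by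
  have hf : QFDual.IsQFFactor A B B := ⟨inferInstance, by
    rw [Algebra.algebraMap_self, show CommRingCat.ofHom (RingHom.id B) = CategoryTheory.CategoryStruct.id (CommRingCat.of B) from rfl, Spec.map_id]; infer_instance⟩
  haveI := S8964.result A B B hf hs
  exact Module.Invertible.congr (TensorProduct.lid B (Disc.Omega A B))

/-- If the annihilator of the diagonal is principal and `ω` is invertible, `ω` is free, with the trace
corresponding to the image of the generator. -/
theorem exists_omega_equiv {A B : Type u} [CommRing A] [CommRing B] [Algebra A B] [Module.Finite A B] [Module.Free A B]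
    [Module.Invertible B (Disc.Omega A B)] (Δ : B ⊗[A] B)
    (hΔ : Submodule.annihilator (RingHom.ker (Algebra.TensorProduct.lmul' (S := B) A)) = Ideal.span {Δ}) :
    ∃ e : B ≃ₗ[B] Disc.Omega A B, e (Algebra.TensorProduct.lmul' (S := B) A Δ) = Disc.Omega.trace A B := by
  classical
  let b := Module.Free.chooseBasis A B
  have hΔmem : Δ ∈ Submodule.annihilator (RingHom.ker (Algebra.TensorProduct.lmul' (S := B) A)) :=
    hΔ ▸ Ideal.mem_span_singleton_self Δ
  have hc := (DiffLib.mem_annihilator_iff Δ).mp hΔmem
  let Φ₀ : Disc.Omega A B →ₗ[B] B :=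
    { toFun := fun l => DiffLib.ev l Δ
      map_add' := fun l l' => DiffLib.ev_add l l' Δ
      map_smul' := fun c l => by rw [DiffLib.ev_smul, hc c, ← DiffLib.mul_ev]; rfl }
  have key : ∀ Φ : Disc.Omega A B →ₗ[B] B, ∃ c : B, ∀ l, Φ l = c * Φ₀ l := by
    intro Φ
    have hmem := DiffLib.mkXi_mem b Φ
    rw [hΔ, Ideal.mem_span_singleton] at hmem
    obtain ⟨t, ht⟩ := hmem
    have ht' : ∀ t : B ⊗[A] B, t * Δ = ((1 : B) ⊗ₜ[A] Algebra.TensorProduct.lmul' (S := B) A t) * Δ := by
      intro t
      induction t using TensorProduct.induction_on with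
      | zero => simp
      | tmul x y =>
        rw [show x ⊗ₜ[A] y = ((1 : B) ⊗ₜ[A] y) * (x ⊗ₜ[A] (1 : B)) by simp, mul_assoc, hc x, ← mul_assoc]
        simp [mul_comm]
      | add x y hx hy => rw [add_mul, hx, hy, map_add, tmul_add, add_mul]
    refine ⟨Algebra.TensorProduct.lmul' (S := B) A t, fun l => ?_⟩
    rw [← DiffLib.ev_mkXi b Φ l, ht, mul_comm, ht']
    exact (DiffLib.mul_ev _ l Δ).symm
  have hsurj : Function.Surjective Φ₀ := by
    have htop : ∀ z : Module.Dual B (Disc.Omega A B) ⊗[B] Disc.Omega A B,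
        Module.Invertible.linearEquiv B (Disc.Omega A B) z ∈ LinearMap.range Φ₀ := by
      intro z
      induction z using TensorProduct.induction_on with
      | zero => simp
      | tmul Φ l =>
        obtain ⟨c, hc⟩ := key Φ
        refine ⟨c • l, ?_⟩
        rw [map_smul]
        exact (hc l).symm
      | add x y hx hy => rw [map_add]; exact add_mem hx hy
    intro x
    obtain ⟨z, rfl⟩ := (Module.Invertible.linearEquiv B (Disc.Omega A B)).surjective x
    exact htop z
  refine ⟨(LinearEquiv.ofBijective Φ₀ (Module.Invertible.bijective_of_surjective hsurj)).symm, ?_⟩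
  rw [LinearEquiv.symm_apply_eq, LinearEquiv.ofBijective_apply]
  show _ = Φ₀ (Disc.Omega.trace A B)
  rw [← DiffLib.lmul_mkXi b Φ₀, show DiffLib.mkXi b Φ₀ = Δ from (DiffLib.eq_mkXi b Δ).symm]

/-- `B ≅ ω`, Jacobian to trace. -/
theorem exists_omega_equiv_gci (A : Type u) [CommRing A] [IsNoetherianRing A] (n : ℕ)
    (f : Fin n → MvPolynomial (Fin n) A) [Module.Finite A (MvPolynomial (Fin n) A ⧸ Ideal.span (Set.range f))]
    [Module.Free A (MvPolynomial (Fin n) A ⧸ Ideal.span (Set.range f))] :
    ∃ e : (MvPolynomial (Fin n) A ⧸ Ideal.span (Set.range f)) ≃ₗ[MvPolynomial (Fin n) A ⧸ Ideal.span (Set.range f)]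
        Disc.Omega A (MvPolynomial (Fin n) A ⧸ Ideal.span (Set.range f)),
      e (Ideal.Quotient.mk (Ideal.span (Set.range f)) (Matrix.det (Matrix.of fun i j : Fin n => MvPolynomial.pderiv j (f i)))) =
        Disc.Omega.trace A (MvPolynomial (Fin n) A ⧸ Ideal.span (Set.range f)) := by
  have h := isRelGCI_of_quasiFinite A n f
  haveI := omega_invertible_of_isSyntomic A (MvPolynomial (Fin n) A ⧸ Ideal.span (Set.range f)) (S9147.result A n n f h)
  obtain ⟨Δ, hΔ, hμ⟩ := exists_annihilator_eq_span A n f h
  exact hμ ▸ exists_omega_equiv Δ hΔ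

end Groth.Agent.Disc93
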