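import Groth.Agent.S8943
import Groth.Agent.KFlatLib.Ring.ShriekComp
import Groth.Agent.KFlatLib.Ring.ShriekVia
import Groth.Agent.KFlatLib.Ring.DualizingFlat
import Groth.Agent.KFlatLib.Ring.DualizingLocalExt
import Groth.Agent.H9Misc.DRingLBase
import Groth.Prelude.Def_Disc
import Mathlib

/-!
# `H⁰` of the shriek of a finite map is `Hom_A(B, A)`
-/

set_option autoImplicit false
set_option linter.style.haveILetI false
set_option backward.isDefEq.respectTransparency false

universe u

open CategoryTheory AlgebraicGeometry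
open scoped TensorProduct

attribute [local instance] HasDerivedCategory.standard

namespace Groth.Agent.Disc93

variable {A B : Type u} [CommRing A] [CommRing B] [Algebra A B]

theorem nonempty_hd_shriek_omega (R : Dual.D A ⥤ Dual.D B) (adj : DRing.restrictD (algebraMap A B) ⊣ R) :
    Nonempty (Dual.HD B (R.obj (Dual.inD A A)) 0 ≃ₗ[B] Disc.Omega A B) := by
  obtain ⟨u⟩ := KFlatLib.exists_homRingLEquiv (R.obj (Dual.inD A A)) 0
  let F := ModuleCat.restrictScalars.{u} (algebraMap A B)
  let S := DerivedCategory.singleFunctor (ModuleCat.{u} A) 0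
  let S' := DerivedCategory.singleFunctor (ModuleCat.{u} B) 0
  let c := (F.mapDerivedCategorySingleFunctor 0).app (ModuleCat.of B B)
  let j : F.obj (ModuleCat.of B B) ≅ ModuleCat.of A B :=
    (LinearEquiv.ofBijective ({ toFun := fun x => x, map_add' := fun _ _ => rfl
                                map_smul' := fun a x => (Algebra.smul_def (A := B) a x).symm } :
      (F.obj (ModuleCat.of B B)) →ₗ[A] B) Function.bijective_id).toModuleIso
  let L : Disc.Omega A B → (Dual.inD B B ⟶ R.obj (Dual.inD A A)) := fun l =>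
    adj.homEquiv _ _ (c.hom ≫ S.map (j.hom ≫ ModuleCat.ofHom l.toLinearMap))
  haveI : R.Additive := adj.right_adjoint_additive
  have hLadd : ∀ l l', L (l + l') = L l + L l' := fun l l' => by
    show adj.homEquiv _ _ (c.hom ≫ S.map (j.hom ≫ ModuleCat.ofHom (l.toLinearMap + l'.toLinearMap))) = _
    rw [ModuleCat.ofHom_add, Preadditive.comp_add, Functor.map_add, Preadditive.comp_add, Adjunction.homEquiv_unit,
      Functor.map_add, Preadditive.comp_add]
    simp only [L, Adjunction.homEquiv_unit]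
  have hLsmul : ∀ (b : B) l, L (b • l) = b • L l := fun b l => by
    have h1 : F.map (b • 𝟙 (ModuleCat.of B B)) ≫ j.hom ≫ ModuleCat.ofHom l.toLinearMap =
        j.hom ≫ ModuleCat.ofHom (b • l).toLinearMap := by
      refine ModuleCat.hom_ext (LinearMap.ext fun x => ?_)
      rfl
    have h2 : S'.map (b • 𝟙 (ModuleCat.of B B)) = b • 𝟙 (S'.obj (ModuleCat.of B B)) := by
      rw [Functor.map_smul, CategoryTheory.Functor.map_id]
    have h3 : b • L l = S'.map (b • 𝟙 (ModuleCat.of B B)) ≫ L l := by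
      rw [h2, Linear.smul_comp, Category.id_comp]
    rw [h3]
    show adj.homEquiv _ _ _ = _
    rw [← h1, Functor.map_comp, ← Adjunction.homEquiv_naturality_left, ← Category.assoc]
    congr 1
    rw [← Category.assoc]
    congr 1
    exact ((F.mapDerivedCategorySingleFunctor 0).hom.naturality (b • 𝟙 (ModuleCat.of B B))).symm
  have hbij : Function.Bijective L := by
    refine ((adj.homEquiv _ _).bijective.comp ((Iso.homFromEquiv c).symm.bijective.comp
      ((Functor.FullyFaithful.ofFullyFaithful S).map_bijective _ _ |>.comp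
        ((Iso.homFromEquiv j).symm.bijective.comp ?_))))
    exact ⟨fun l l' h => Disc.Omega.ext (congrArg ModuleCat.Hom.hom h), fun g => ⟨⟨g.hom⟩, rfl⟩⟩
  let e : Disc.Omega A B ≃ₗ[B] (Dual.inD B B ⟶ R.obj (Dual.inD A A)) :=
    LinearEquiv.ofBijective { toFun := L, map_add' := hLadd, map_smul' := hLsmul } hbij
  exact ⟨(e.trans ((Linear.homCongr B (Iso.refl _) ((shiftFunctorZero (Dual.D B) ℤ).app _).symm).trans u)).symm⟩

end Groth.Agent.Disc93

namespace Groth.Agent.Disc93

theorem nonempty_hd_shriekVia_omega {A B B' : Type u} [CommRing A] [CommRing B] [CommRing B'] [IsNoetherianRing A]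
    [IsNoetherianRing B] [Algebra A B] [Algebra A B'] [Algebra B' B] [IsScalarTower A B' B] [Module.Finite A B']
    (hopen : IsOpenImmersion (Spec.map (CommRingCat.ofHom (algebraMap B' B)))) (n : ℕ)
    (ψ : MvPolynomial (Fin n) A →ₐ[A] B) (hψ : Function.Surjective ψ)
    [DRing.HasLBaseChange (algebraMap A (MvPolynomial (Fin n) A))]
    (Rψ : Dual.D (MvPolynomial (Fin n) A) ⥤ Dual.D B) (adj : DRing.restrictD ψ.toRingHom ⊣ Rψ) :
    Nonempty (Dual.HD B (Dual2.shriekVia n Rψ (Dual.inD A A)) 0 ≃ₗ[B] (B ⊗[B'] Disc.Omega A B')) := by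
  haveI : IsNoetherianRing B' := IsNoetherianRing.of_finite A B'
  haveI : Algebra.FiniteType A B := ⟨by simpa using
    ((Algebra.FiniteType.of_surjective ψ hψ).out)⟩
  haveI : Algebra.FiniteType B' B := Algebra.FiniteType.of_restrictScalars_finiteType A B' B
  haveI : Module.Flat B' B := by
    haveI := hopen
    exact RingHom.flat_algebraMap_iff.1
      ((HasRingHomProperty.Spec_iff (P := @Flat) (φ := CommRingCat.ofHom (algebraMap B' B))).1 inferInstance)
  obtain ⟨m, ψ', hψ'⟩ := (Algebra.FiniteType.iff_quotient_mvPolynomial'' (R := A) (S := B')).1 inferInstance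
  obtain ⟨k, χ, hχ⟩ := (Algebra.FiniteType.iff_quotient_mvPolynomial'' (R := B') (S := B)).1 inferInstance
  haveI := KFlatLib.hasLBase (algebraMap A (MvPolynomial (Fin n) A))
  haveI := KFlatLib.hasLBase (algebraMap A (MvPolynomial (Fin m) A))
  haveI := KFlatLib.hasLBase (algebraMap B' (MvPolynomial (Fin k) B'))
  haveI := H9Misc.DRingLBase.hasLBaseChange (algebraMap B' (MvPolynomial (Fin k) B'))
  haveI := H9Misc.DRingLBase.hasLBaseChange (algebraMap B' B)
  haveI := KFlatLib.hasLBase (algebraMap B' B)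
  obtain ⟨e₁⟩ := KFlatLib.nonempty_LBaseChange_iso (algebraMap A (MvPolynomial (Fin n) A))
  obtain ⟨e₂⟩ := KFlatLib.nonempty_LBaseChange_iso (algebraMap B' (MvPolynomial (Fin k) B'))
  obtain ⟨e₄⟩ := KFlatLib.nonempty_LBaseChange_iso (algebraMap B' B)
  obtain ⟨R₁, ⟨a₁⟩⟩ := KFlatLib.exists_shriek ψ'.toRingHom
  obtain ⟨R₂, ⟨a₂⟩⟩ := KFlatLib.exists_shriek χ.toRingHom
  obtain ⟨R', ⟨a'⟩⟩ := KFlatLib.exists_shriek (algebraMap A B')
  have h₁ : ψ'.toRingHom.comp MvPolynomial.C = algebraMap A B' := RingHom.ext fun r => ψ'.commutes r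
  have h₂ : χ.toRingHom.comp MvPolynomial.C = algebraMap B' B := RingHom.ext fun r => χ.commutes r
  have h₃ : ψ.toRingHom.comp MvPolynomial.C = algebraMap A B := RingHom.ext fun r => ψ.commutes r
  obtain ⟨comp⟩ := KFlatLib.nonempty_shriekVia_comp m ψ'.toRingHom hψ' (algebraMap A (MvPolynomial (Fin m) A)) rfl a₁
    k χ.toRingHom hχ (algebraMap B' (MvPolynomial (Fin k) B')) rfl a₂ n ψ.toRingHom hψ
    (by rw [h₁, h₂, h₃, ← IsScalarTower.algebraMap_eq]) (algebraMap A (MvPolynomial (Fin n) A)) rfl adj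
    (Dual.inD A A) 0
  obtain ⟨fin⟩ := KFlatLib.nonempty_shriek_finite m ψ'.toRingHom hψ' (algebraMap A (MvPolynomial (Fin m) A)) rfl h₁
    a₁ a'
  obtain ⟨open'⟩ := S8943.result B' B hopen k χ hχ R₂ a₂ (R'.obj (Dual.inD A A))
  obtain ⟨hd⟩ := KFlatLib.exists_hdLBaseLEquiv (B := B) (R'.obj (Dual.inD A A)) 0
  obtain ⟨om⟩ := nonempty_hd_shriek_omega R' a'
  let H := DerivedCategory.homologyFunctor (ModuleCat.{u} B) 0
  let i : Dual2.shriekVia n Rψ (Dual.inD A A) ≅ (DTen.LBase (algebraMap B' B)).obj (R'.obj (Dual.inD A A)) :=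
    (shiftFunctor _ (n : ℤ)).mapIso (Rψ.mapIso (e₁.app _)) ≪≫ comp ≪≫
    (shiftFunctor _ (k : ℤ)).mapIso (R₂.mapIso ((DTen.LBase _).mapIso (fin.app _) ≪≫ (e₂.app _).symm)) ≪≫
    open' ≪≫ e₄.app _
  exact ⟨(H.mapIso i).toLinearEquiv.trans (hd.trans (TensorProduct.AlgebraTensorModule.congr (LinearEquiv.refl B B) om))⟩

end Groth.Agent.Disc93
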